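import Cfsg.Agent.SolFour.Basic
import Cfsg.Agent.PGroupRank.NormalFourOdd
import Cfsg.Agent.Coprime.Hall

/-!
A `p`-group, `p ≥ 5`, normalised by `q`: in it the centraliser of the four-group has index at most
`p` in every subgroup.
-/

set_option autoImplicit false
set_option linter.style.haveILetI false

namespace Cfsg.Agent.SolFour

open Subgroup Cfsg
open scoped commutatorElement

universe u

variable {S : Type u} [Group S] [Finite S] {M : Subgroup S} {q : S} {p : ℕ} [hp : Fact p.Prime]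

omit [Finite S] in
/-- A subgroup whose elements map `K` into itself by conjugation normalises it. -/
theorem le_normalizer_of_conj_mem' {P K : Subgroup S}
    (hc : ∀ g ∈ P, ∀ y ∈ K, g * y * g⁻¹ ∈ K) : P ≤ normalizer (K : Set S) := fun g hg =>
  mem_normalizer_iff.mpr fun y => ⟨hc g hg y, fun hy => by
    simpa [mul_assoc] using hc g⁻¹ (inv_mem hg) _ hy⟩

/-- A `p`-element, `p ≥ 5`, acts trivially on a section of order at most four. -/
theorem inv_mul_conj_mem_of_small (h5 : 5 ≤ p) {C U : Subgroup S} (hidx : C.relIndex U ≤ 4)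
    {g : S} {k : ℕ} (hgk : g ^ p ^ k = 1) (hgC : g ∈ normalizer (C : Set S))
    (hgU : g ∈ normalizer (U : Set S)) {u : S} (hu : u ∈ U) : u⁻¹ * (g * u * g⁻¹) ∈ C := by
  let St : Subgroup S :=
    { carrier := {x | x ∈ normalizer (C : Set S) ∧ u⁻¹ * (x * u * x⁻¹) ∈ C}
      one_mem' := ⟨one_mem _, by simp⟩
      mul_mem' := fun {x y} hx hy => ⟨mul_mem hx.1 hy.1, by
        have h1 := mul_mem hx.2 ((mem_normalizer_iff.mp hx.1 _).mp hy.2)
        rwa [show u⁻¹ * (x * u * x⁻¹) * (x * (u⁻¹ * (y * u * y⁻¹)) * x⁻¹) =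
          u⁻¹ * (x * y * u * (x * y)⁻¹) by group] at h1⟩
      inv_mem' := fun {x} hx => ⟨inv_mem hx.1, by
        have h1 := (mem_normalizer_iff.mp (inv_mem hx.1) _).mp (inv_mem hx.2)
        rwa [show x⁻¹ * (u⁻¹ * (x * u * x⁻¹))⁻¹ * x⁻¹⁻¹ = u⁻¹ * (x⁻¹ * u * x⁻¹⁻¹) by
          group] at h1⟩ }
  suffices g ∈ St from this.2
  have hconj : ∀ i : ℕ, g ^ i * u * (g ^ i)⁻¹ ∈ U := fun i =>
    (mem_normalizer_iff.mp (pow_mem hgU i) u).mp hu
  let f : Fin 5 → U ⧸ C.subgroupOf U := fun i =>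
    QuotientGroup.mk (⟨g ^ (i : ℕ) * u * (g ^ (i : ℕ))⁻¹, hconj i⟩ : U)
  obtain ⟨i, j, he, hij⟩ : ∃ i j, f i = f j ∧ i ≠ j := by
    by_contra hc
    push Not at hc
    have := Nat.card_le_card_of_injective f fun a b e => hc a b e
    rw [Nat.card_fin, ← index_eq_card] at this
    exact absurd (this.trans hidx) (by norm_num)
  wlog hlt : (i : ℕ) < (j : ℕ) generalizing i j
  · exact this j i he.symm hij.symm (lt_of_le_of_ne (not_lt.mp hlt)
      fun e => hij (Fin.ext e.symm))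
  have h1 : (g ^ (i : ℕ) * u * (g ^ (i : ℕ))⁻¹)⁻¹ * (g ^ (j : ℕ) * u * (g ^ (j : ℕ))⁻¹) ∈ C :=
    mem_subgroupOf.mp ((QuotientGroup.eq (s := C.subgroupOf U)).mp he)
  have h2 := (mem_normalizer_iff.mp (inv_mem (pow_mem hgC (i : ℕ))) _).mp h1
  obtain ⟨d, hd⟩ : ∃ d, (j : ℕ) = i + d := ⟨(j : ℕ) - i, by omega⟩
  have hdSt : g ^ d ∈ St := ⟨pow_mem hgC d, by
    rw [hd, pow_add] at h2
    simpa [mul_assoc] using h2⟩
  have hcop : d.Coprime (orderOf g) := by
    refine Nat.Coprime.coprime_dvd_right (orderOf_dvd_of_pow_eq_one hgk) (Nat.Coprime.pow_right k ?_)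
    refine (hp.out.coprime_iff_not_dvd.mpr fun hpd => ?_).symm
    have := Nat.le_of_dvd (by omega) hpd
    omega
  obtain ⟨m, hm⟩ := exists_pow_eq_self_of_coprime hcop
  exact hm ▸ pow_mem hdSt m

/-- A `p`-element, `p ≥ 5`, normalising the four-group centralises it. -/
theorem Ctx.centralizes (h : Ctx M q) (h5 : 5 ≤ p) {g : S} {k : ℕ} (hgk : g ^ p ^ k = 1)
    (hg : ∀ v ∈ ⁅zpowers q, M⁆, g * v * g⁻¹ ∈ ⁅zpowers q, M⁆) {v : S} (hv : v ∈ ⁅zpowers q, M⁆) :
    g * v * g⁻¹ = v := by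
  have h1 := inv_mul_conj_mem_of_small h5 (C := ⊥) (U := ⁅zpowers q, M⁆)
    (by rw [relIndex_bot_left, h.four]) hgk (mem_normalizer_iff.mpr fun x => by simp)
    (mem_normalizer_iff.mpr fun x => ⟨hg x, fun hx => by
      classical
      -- `g⁻¹` is a positive power of `g`
      have hn : g⁻¹ = g ^ (orderOf g - 1) := by
        refine inv_eq_of_mul_eq_one_right ?_
        rw [← pow_succ', Nat.sub_add_cancel (orderOf_pos g), pow_orderOf_eq_one]
      have hit : ∀ n : ℕ, ∀ y ∈ ⁅zpowers q, M⁆, g ^ n * y * (g ^ n)⁻¹ ∈ ⁅zpowers q, M⁆ := by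
        intro n
        induction n with
        | zero => intro y hy; simpa using hy
        | succ n ih =>
          intro y hy
          have := hg _ (ih y hy)
          rw [pow_succ']
          simpa [mul_assoc] using this
      have := hit (orderOf g - 1) _ hx
      rw [← hn] at this
      simpa [mul_assoc] using this⟩) hv
  rw [mem_bot] at h1
  exact (inv_mul_eq_one.mp h1).symm

theorem Ctx.relIndex_centralizer_le (h : Ctx M q) (h5 : 5 ≤ p) {P : Subgroup S}
    (hP : IsPGroup p P) (hqP : q ∈ normalizer (P : Set S)) {E : Subgroup S} (hE : E ≤ P) :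
    Nat.card E ≤ Nat.card (E ⊓ centralizer ((⁅zpowers q, M⁆ : Subgroup S) : Set S) : Subgroup S) * p := by
  haveI := h.elem.1
  set V := ⁅zpowers q, M⁆ with hV
  have hp2 : p ≠ 2 := by omega
  set W := ⁅M, P⁆ with hW
  by_cases hfix : ∀ w ∈ W, Commute q w
  · rw [inf_eq_left.mpr (hE.trans (h.le_centralizer_of_fix hp2 hP hqP hfix))]
    exact Nat.le_mul_of_pos_right _ hp.out.pos
  push Not at hfix
  obtain ⟨w, hw, hwq⟩ := hfix
  have hWM : W ≤ M := Coprime.commutator_le_of_le_normalizer (h.le_normalizer P)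
  have hPW : P ≤ normalizer (W : Set S) := le_sup_right.trans Coprime.le_normalizer_commutator
  have hW0 : ∀ x ∈ W, x ∈ centralizer (P : Set S) → x = 1 := by
    intro x hx hxc
    rw [← mem_bot, ← Coprime.centralizer_inf_commutator_eq_bot (h.le_normalizer P)
      (h.coprime hp2 hP le_rfl)]
    exact mem_inf.mpr ⟨mem_inf.mpr ⟨hWM hx, hxc⟩, hx⟩
  obtain ⟨U, hUmem, hmin⟩ := Set.Finite.exists_minimal
    (Set.toFinite {U : Subgroup S | U ≤ W ∧ P ≤ normalizer (U : Set S) ∧ ∃ u ∈ U, ¬ Commute q u})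
    ⟨W, le_rfl, hPW, w, hw, hwq⟩
  obtain ⟨hUW, hPU, u, hu, huq⟩ := hUmem
  have hproper : ∀ X : Subgroup S, X ≤ U → X ≠ U → P ≤ normalizer (X : Set S) →
      ∀ x ∈ X, Commute q x := fun X hXU hne hX x hx => by
    by_contra hq
    exact hne (le_antisymm hXU (hmin ⟨hXU.trans hUW, hX, x, hx, hq⟩ hXU))
  have hUM : U ≤ M := hUW.trans hWM
  have hqPconj : ∀ g ∈ P, q⁻¹ * g * q ∈ P := fun g hg => by
    simpa using (mem_normalizer_iff.mp (inv_mem hqP) g).mp hg
  have hpow : ∀ g ∈ P, ∃ k, g ^ p ^ k = 1 := fun g hg => by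
    obtain ⟨k, hk⟩ := hP ⟨g, hg⟩
    exact ⟨k, by simpa using congrArg Subtype.val hk⟩
  set C := U ⊓ centralizer ({q} : Set S) with hC
  have hmemC : ∀ x, x ∈ C ↔ x ∈ U ∧ Commute q x := by
    intro x
    rw [hC, mem_inf, mem_centralizer_singleton_iff]
    exact and_congr_right fun _ => ⟨fun e => Eq.symm e, fun e => Eq.symm e⟩
  -- the kernel of `u ↦ ⁅q, u⁆`
  have hker : (h.delta hUM).ker = C.subgroupOf U := by
    ext x
    rw [MonoidHom.mem_ker, mem_subgroupOf, hmemC]
    exact ⟨fun e => ⟨x.2, commutatorElement_eq_one_iff_mul_comm.mp (congrArg Subtype.val e)⟩,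
      fun e => Subtype.ext (commutatorElement_eq_one_iff_mul_comm.mpr e.2)⟩
  have hidx : C.relIndex U ≤ 4 := by
    rw [relIndex, ← hker, index_ker, ← h.four]
    exact card_le_card_group _
  -- `q` normalises `U`
  set U' := U.map (MulAut.conj q).toMonoidHom with hU'
  have hU'mem : ∀ y, y ∈ U' ↔ q⁻¹ * y * q ∈ U := fun y => by
    rw [hU', mem_map_equiv, MulAut.conj_symm_apply]
  have hPU' : P ≤ normalizer (U' : Set S) := by
    intro g hg
    rw [mem_normalizer_iff]
    intro y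
    rw [hU'mem, hU'mem, mem_normalizer_iff.mp (hPU (hqPconj g hg)) (q⁻¹ * y * q),
      show q⁻¹ * g * q * (q⁻¹ * y * q) * (q⁻¹ * g * q)⁻¹ = q⁻¹ * (g * y * g⁻¹) * q by group]
  have hUq : ∀ x ∈ U, q * x * q⁻¹ ∈ U := by
    intro x hx
    by_cases heq : U ⊓ U' = U
    · have h1 : U ≤ U' := inf_eq_left.mp heq
      have h2 : U = U' :=
        eq_of_le_of_card_ge h1 (card_map_of_injective (MulAut.conj q).injective).le
      rw [h2, hU'mem]
      simpa [mul_assoc] using hx
    exfalso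
    have hfixX := hproper _ inf_le_left heq (Coprime.le_normalizer_inf hPU hPU')
    have hCX : C = U ⊓ U' := by
      ext y
      rw [hmemC, mem_inf, hU'mem]
      refine ⟨fun hy => ⟨hy.1, ?_⟩, fun hy => ⟨hy.1, hfixX y (mem_inf.mpr ⟨hy.1, (hU'mem y).mpr hy.2⟩)⟩⟩
      rw [mul_assoc, ← hy.2.eq, inv_mul_cancel_left]
      exact hy.1
    -- `P` would centralise `U` modulo `C`, hence `U ≤ C`
    have hPC : P ≤ normalizer (C : Set S) := hCX ▸ Coprime.le_normalizer_inf hPU hPU'
    have h3 : ⁅U, P⁆ ≤ C := by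
      rw [commutator_le]
      intro y hy g hg
      obtain ⟨k, hk⟩ := hpow g hg
      have h4 := inv_mul_conj_mem_of_small h5 hidx hk (hPC hg) (hPU hg) (inv_mem hy)
      rw [commutatorElement_def]
      simpa [mul_assoc] using h4
    have h5' : U ≤ C := by
      haveI : IsMulCommutative U := ⟨⟨fun a b => Subtype.ext (h.comm (hUM a.2) (hUM b.2))⟩⟩
      have hd := (Coprime.abelian_decomposition hPU (h.coprime hp2 hP hUM)).2
      rw [← hd]
      refine sup_le (fun y hy => ?_) h3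
      rw [hW0 y (hUW hy.1) hy.2]
      exact one_mem _
    exact huq ((hmemC u).mp (h5' hu)).2
  have hVU : V ≤ U := h.le_of_invariant hUM hUq hu huq
  haveI : IsMulCommutative U := ⟨⟨fun a b => Subtype.ext (h.comm (hUM a.2) (hUM b.2))⟩⟩
  -- elements central modulo the kernel act without fixed points
  have hfpf : ∀ z ∈ P, z ∉ centralizer (U : Set S) →
      (∀ g ∈ P, z⁻¹ * (g * z * g⁻¹) ∈ centralizer (U : Set S)) →
      ∀ x ∈ U, Commute z x → x = 1 := by
    intro z hz hzN hzc x hx hzx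
    set A := zpowers z with hA
    have hAU : A ≤ normalizer (U : Set S) := (zpowers_le.mpr hz).trans hPU
    have hcop := h.coprime hp2 (hP.to_le (zpowers_le.mpr hz)) hUM
    have hdec := Coprime.abelian_decomposition hAU hcop
    -- images of powers of `z` agree with their conjugates on `U`
    have hzi : ∀ g ∈ P, ∀ i : ℤ, (z ^ i)⁻¹ * (g * z ^ i * g⁻¹) ∈ centralizer (U : Set S) := by
      intro g hg i
      let St : Subgroup S :=
        { carrier := {a | a ∈ normalizer ((centralizer (U : Set S) : Subgroup S) : Set S) ∧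
            a⁻¹ * (g * a * g⁻¹) ∈ centralizer (U : Set S)}
          one_mem' := ⟨one_mem _, by simp⟩
          mul_mem' := fun {a b} ha hb => ⟨mul_mem ha.1 hb.1, by
            have h1 := mul_mem ((mem_normalizer_iff.mp (inv_mem hb.1) _).mp ha.2) hb.2
            rwa [show b⁻¹ * (a⁻¹ * (g * a * g⁻¹)) * b⁻¹⁻¹ * (b⁻¹ * (g * b * g⁻¹)) =
              (a * b)⁻¹ * (g * (a * b) * g⁻¹) by group] at h1⟩
          inv_mem' := fun {a} ha => ⟨inv_mem ha.1, by
            have h1 := (mem_normalizer_iff.mp ha.1 _).mp (inv_mem ha.2)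
            rwa [show a * (a⁻¹ * (g * a * g⁻¹))⁻¹ * a⁻¹ = a⁻¹⁻¹ * (g * a⁻¹ * g⁻¹) by
              group] at h1⟩ }
      have hmem : z ∈ St := ⟨Coprime.le_normalizer_centralizer hPU hz, hzc g hg⟩
      exact (zpow_mem hmem i).2
    set K := U ⊓ centralizer (A : Set S) with hK
    have hxK : x ∈ K := mem_inf.mpr ⟨hx, mem_centralizer_iff.mpr fun a ha => by
      obtain ⟨i, rfl⟩ := mem_zpowers_iff.mp ha
      exact (hzx.zpow_left i).eq⟩
    have hPK : P ≤ normalizer (K : Set S) := by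
      refine le_normalizer_of_conj_mem' fun g hg y hy => ?_
      refine mem_inf.mpr ⟨(mem_normalizer_iff.mp (hPU hg) y).mp hy.1,
        mem_centralizer_iff.mpr fun a ha => ?_⟩
      obtain ⟨i, rfl⟩ := mem_zpowers_iff.mp ha
      have hn := hzi g hg i
      have hy' : g * y * g⁻¹ ∈ U := (mem_normalizer_iff.mp (hPU hg) y).mp hy.1
      have hc := mem_centralizer_iff.mp hn _ hy'
      have hzy := mem_centralizer_iff.mp hy.2 _ (zpow_mem (mem_zpowers z) i)
      calc z ^ i * (g * y * g⁻¹)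
          = g * z ^ i * g⁻¹ * ((z ^ i)⁻¹ * (g * z ^ i * g⁻¹))⁻¹ * (g * y * g⁻¹) := by group
        _ = g * z ^ i * g⁻¹ * ((g * y * g⁻¹) * ((z ^ i)⁻¹ * (g * z ^ i * g⁻¹))⁻¹) := by
            rw [mul_assoc (g * z ^ i * g⁻¹), ← mem_centralizer_iff.mp (inv_mem hn) _ hy']
        _ = g * (z ^ i * y) * g⁻¹ * ((z ^ i)⁻¹ * (g * z ^ i * g⁻¹))⁻¹ := by group
        _ = g * (y * z ^ i) * g⁻¹ * ((z ^ i)⁻¹ * (g * z ^ i * g⁻¹))⁻¹ := by rw [hzy]
        _ = g * y * g⁻¹ * z ^ i := by group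
    have hPR : P ≤ normalizer ((⁅U, A⁆ : Subgroup S) : Set S) := by
      refine le_normalizer_of_conj_mem' fun g hg y hy => ?_
      have hle : ⁅U, A⁆ ≤ (⁅U, A⁆ : Subgroup S).comap (MulAut.conj g).toMonoidHom := by
        rw [commutator_le]
        intro v hv a ha
        obtain ⟨i, rfl⟩ := mem_zpowers_iff.mp ha
        rw [mem_comap]
        show g * ⁅v, z ^ i⁆ * g⁻¹ ∈ _
        have hv' : g * v * g⁻¹ ∈ U := (mem_normalizer_iff.mp (hPU hg) v).mp hv
        have hn := hzi g hg i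
        have hc := mem_centralizer_iff.mp hn _ (inv_mem hv')
        have e : g * ⁅v, z ^ i⁆ * g⁻¹ = ⁅g * v * g⁻¹, z ^ i⁆ := by
          set n := (z ^ i)⁻¹ * (g * z ^ i * g⁻¹) with hn'
          have hz' : g * z ^ i * g⁻¹ = z ^ i * n := by rw [hn']; group
          calc g * ⁅v, z ^ i⁆ * g⁻¹
              = (g * v * g⁻¹) * (g * z ^ i * g⁻¹) * (g * v * g⁻¹)⁻¹ * (g * z ^ i * g⁻¹)⁻¹ := by
                rw [commutatorElement_def]; group
            _ = (g * v * g⁻¹) * z ^ i * (n * (g * v * g⁻¹)⁻¹) * (z ^ i * n)⁻¹ := by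
                rw [hz']; group
            _ = (g * v * g⁻¹) * z ^ i * ((g * v * g⁻¹)⁻¹ * n) * (z ^ i * n)⁻¹ := by rw [hc]
            _ = _ := by rw [commutatorElement_def]; group
        rw [e]
        exact commutator_mem_commutator hv' (zpow_mem (mem_zpowers z) i)
      exact hle hy
    have hK1 : K ≠ U := fun e => by
      refine hzN (mem_centralizer_iff.mpr fun y hy => ?_)
      exact (mem_centralizer_iff.mp (e.ge hy).2 z (mem_zpowers z)).symm
    by_contra hx1
    have hR1 : ⁅U, A⁆ ≠ U := fun e => hx1 (by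
      have h1 := hdec.1
      rw [e, inf_eq_left.mpr inf_le_left] at h1
      exact mem_bot.mp (h1 ▸ hxK))
    have hU : U ≤ centralizer {q} := by
      rw [← hdec.2]
      exact sup_le
        (fun y hy => mem_centralizer_singleton_iff.mpr (hproper K inf_le_left hK1 hPK y hy).symm.eq)
        (fun y hy => mem_centralizer_singleton_iff.mpr
          (hproper _ (Coprime.commutator_le_of_le_normalizer hAU) hR1 hPR y hy).symm.eq)
    exact huq (mem_centralizer_singleton_iff.mp (hU hu)).symm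
  -- a nontrivial central element modulo the kernel
  set N := P ⊓ centralizer (U : Set S) with hN
  have hu1 : u ≠ 1 := fun e => huq (e ▸ Commute.one_right q)
  haveI hNn : (N.subgroupOf P).Normal := normal_subgroupOf_of_le_normalizer
    (Coprime.le_normalizer_inf Subgroup.le_normalizer (Coprime.le_normalizer_centralizer hPU))
  obtain ⟨z, hz, hzN, hzc⟩ : ∃ z ∈ P, z ∉ centralizer (U : Set S) ∧
      ∀ g ∈ P, z⁻¹ * (g * z * g⁻¹) ∈ centralizer (U : Set S) := by
    haveI : Nontrivial (P ⧸ N.subgroupOf P) := by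
      rw [_root_.nontrivial_iff]
      by_contra hc
      push Not at hc
      refine hu1 (hW0 u (hUW hu) (mem_centralizer_iff.mpr fun g hg => ?_))
      have h1 := (QuotientGroup.eq_one_iff (N := N.subgroupOf P) ⟨g, hg⟩).mp (hc _ _)
      exact (mem_centralizer_iff.mp h1.2 u hu).symm
    haveI := (hP.to_quotient (N.subgroupOf P)).center_nontrivial
    obtain ⟨c, hc, hc1⟩ := exists_ne_one_of_nontrivial (center (P ⧸ N.subgroupOf P))
    obtain ⟨z, rfl⟩ := QuotientGroup.mk_surjective c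
    refine ⟨z, z.2, fun hzc => hc1 ((QuotientGroup.eq_one_iff z).mpr ⟨z.2, hzc⟩), fun g hg => ?_⟩
    have h1 := mem_center_iff.mp hc (QuotientGroup.mk ⟨g, hg⟩)
    have h2 : QuotientGroup.mk z = (QuotientGroup.mk (⟨g, hg⟩ * z * (⟨g, hg⟩ : P)⁻¹) :
        P ⧸ N.subgroupOf P) := by
      rw [QuotientGroup.mk_mul, QuotientGroup.mk_mul, h1, QuotientGroup.mk_inv, mul_inv_cancel_right]
    exact (mem_subgroupOf.mp (QuotientGroup.eq.mp h2)).2
  -- its conjugate acts differently
  have hz' : q * z * q⁻¹ ∈ P := (mem_normalizer_iff.mp hqP z).mp hz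
  have hzU : ∀ y ∈ U, z * y * z⁻¹ ∈ U := fun y hy => (mem_normalizer_iff.mp (hPU hz) y).mp hy
  have hUqi : ∀ y ∈ U, q⁻¹ * y * q ∈ U := by
    intro y hy
    have hle : U' ≤ U := by
      rintro _ ⟨x, hx, rfl⟩
      exact hUq x hx
    have h2 : U' = U := eq_of_le_of_card_ge hle (card_map_of_injective (MulAut.conj q).injective).ge
    exact (hU'mem y).mp (h2 ▸ hy)
  obtain ⟨k, hzk⟩ := hpow z hz
  set d := z⁻¹ * (q * z * q⁻¹) with hd
  have hdN : d ∉ centralizer (U : Set S) := by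
    intro hdc
    obtain ⟨v, hv, hv1⟩ := h.exists_ne
    have hnorm : ∀ y ∈ V, z * y * z⁻¹ ∈ V := by
      intro y hy
      obtain ⟨y', hy', rfl⟩ := h.exists_comm_eq hy
      have hyU := hVU hy'
      have hc' : d * (q * y' * q⁻¹) = q * y' * q⁻¹ * d :=
        (mem_centralizer_iff.mp hdc _ (hUq _ hyU)).symm
      have e : z * (q * y' * q⁻¹) * z⁻¹ = q * (z * y' * z⁻¹) * q⁻¹ := by
        calc z * (q * y' * q⁻¹) * z⁻¹ = z * (q * y' * q⁻¹ * d) * d⁻¹ * z⁻¹ := by group
          _ = z * (d * (q * y' * q⁻¹)) * d⁻¹ * z⁻¹ := by rw [hc']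
          _ = q * (z * y' * z⁻¹) * q⁻¹ := by rw [hd]; group
      have e2 : z * ⁅q, y'⁆ * z⁻¹ = ⁅q, z * y' * z⁻¹⁆ := by
        calc z * ⁅q, y'⁆ * z⁻¹ = z * (q * y' * q⁻¹) * z⁻¹ * (z * y' * z⁻¹)⁻¹ := by
              rw [commutatorElement_def]; group
          _ = q * (z * y' * z⁻¹) * q⁻¹ * (z * y' * z⁻¹)⁻¹ := by rw [e]
          _ = _ := (commutatorElement_def _ _).symm
      rw [e2]
      exact h.comm_mem (hUM (hzU _ hyU))
    exact hv1 (hfpf z hz hzN hzc v (hVU hv)
      (mul_inv_eq_iff_eq_mul.mp (h.centralizes h5 hzk hnorm hv)))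
  have hzcN : ∀ g ∈ P, d⁻¹ * (g * d * g⁻¹) ∈ centralizer (U : Set S) := by
    intro g hg
    have hNC : ∀ a ∈ P, ∀ x ∈ centralizer (U : Set S), a * x * a⁻¹ ∈ centralizer (U : Set S) :=
      fun a ha x hx => (mem_normalizer_iff.mp (Coprime.le_normalizer_centralizer hPU ha) x).mp hx
    have h2 := hzc g hg
    have h3 : q * (z⁻¹ * (q⁻¹ * g * q * z * (q⁻¹ * g * q)⁻¹)) * q⁻¹ ∈ centralizer (U : Set S) := by
      refine mem_centralizer_iff.mpr fun y hy => ?_
      have hc := mem_centralizer_iff.mp (hzc _ (hqPconj g hg)) _ (hUqi y hy)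
      calc y * (q * (z⁻¹ * (q⁻¹ * g * q * z * (q⁻¹ * g * q)⁻¹)) * q⁻¹)
          = q * ((q⁻¹ * y * q) * (z⁻¹ * (q⁻¹ * g * q * z * (q⁻¹ * g * q)⁻¹))) * q⁻¹ := by group
        _ = q * ((z⁻¹ * (q⁻¹ * g * q * z * (q⁻¹ * g * q)⁻¹)) * (q⁻¹ * y * q)) * q⁻¹ := by rw [hc]
        _ = _ := by group
    set w' := q * z * q⁻¹
    have h4 : w'⁻¹ * (g * w' * g⁻¹) ∈ centralizer (U : Set S) := by
      rwa [show w'⁻¹ * (g * w' * g⁻¹) = q * (z⁻¹ * (q⁻¹ * g * q * z * (q⁻¹ * g * q)⁻¹)) * q⁻¹ by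
        simp only [w']; group]
    -- `d = z⁻¹ w'`
    have h5' : d⁻¹ * (g * d * g⁻¹) =
        w'⁻¹ * (z * (g * z⁻¹ * g⁻¹)) * w' * (w'⁻¹ * (g * w' * g⁻¹)) := by
      rw [hd]; group
    rw [h5']
    refine mul_mem ?_ h4
    have h6 : z * (g * z⁻¹ * g⁻¹) ∈ centralizer (U : Set S) := by
      have := hNC z hz _ (inv_mem h2)
      rwa [show z * (z⁻¹ * (g * z * g⁻¹))⁻¹ * z⁻¹ = z * (g * z⁻¹ * g⁻¹) by group] at this
    simpa using hNC _ (inv_mem hz') _ h6
  have hdP : d ∈ P := mul_mem (inv_mem hz) hz'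
  -- hence `U` has order at most sixteen
  have hUcard : Nat.card U ≤ 16 := by
    have hcard : Nat.card U = Nat.card C * C.relIndex U := by
      exact (Coprime.card_mul_relIndex_of_le inf_le_left).symm
    let f : C × C → U := fun c => ⟨(c.1 : S) * (z * (c.2 : S) * z⁻¹),
      mul_mem ((hmemC _).mp c.1.2).1 (hzU _ ((hmemC _).mp c.2.2).1)⟩
    have hinj : Function.Injective f := by
      rintro ⟨a, b⟩ ⟨a', b'⟩ e
      have e' : (a : S) * (z * b * z⁻¹) = a' * (z * b' * z⁻¹) := congrArg Subtype.val e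
      set c := (b : S) * (b' : S)⁻¹ with hc
      have hcC : c ∈ C := mul_mem b.2 (inv_mem b'.2)
      have h1 : z * c * z⁻¹ = (a : S)⁻¹ * a' := by
        calc z * c * z⁻¹ = (a : S)⁻¹ * ((a : S) * (z * b * z⁻¹)) * (z * b' * z⁻¹)⁻¹ := by
              rw [hc]; group
          _ = _ := by rw [e']; group
      have h2 : z * c * z⁻¹ ∈ C := h1 ▸ mul_mem (inv_mem a.2) a'.2
      obtain ⟨hcU, hcq⟩ := (hmemC _).mp hcC
      obtain ⟨-, hzq⟩ := (hmemC _).mp h2
      have h3 : q * z * q⁻¹ * c * (q * z * q⁻¹)⁻¹ = z * c * z⁻¹ := by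
        calc q * z * q⁻¹ * c * (q * z * q⁻¹)⁻¹ = q * (z * (q⁻¹ * (c * q)) * z⁻¹) * q⁻¹ := by group
          _ = q * (z * c * z⁻¹) * q⁻¹ := by rw [← hcq.eq]; group
          _ = z * c * z⁻¹ := by rw [hzq.eq, mul_inv_cancel_right]
      have h4 : Commute d c := by
        refine mul_inv_eq_iff_eq_mul.mp ?_
        calc d * c * d⁻¹ = z⁻¹ * (q * z * q⁻¹ * c * (q * z * q⁻¹)⁻¹) * z := by rw [hd]; group
          _ = c := by rw [h3]; group
      have hc1 := hfpf d hdP hdN hzcN c hcU h4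
      have hb : (b : S) = b' := mul_inv_eq_one.mp hc1
      rw [hb] at e'
      exact Prod.ext (Subtype.ext (mul_right_cancel e')) (Subtype.ext hb)
    have h6 := Nat.card_le_card_of_injective f hinj
    rw [Nat.card_prod, hcard] at h6
    have h7 : Nat.card C ≤ C.relIndex U := Nat.le_of_mul_le_mul_left h6 Nat.card_pos
    rw [hcard]
    exact le_trans (Nat.mul_le_mul (h7.trans hidx) hidx) (by norm_num)
  -- point stabilisers have index at most `p`
  have hstab : ∀ y ∈ U, (centralizer ({y} : Set S)).relIndex P ≤ p ∧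
      ∀ g ∈ P, ∀ g' ∈ P, ⁅g, g'⁆ ∈ centralizer ({y} : Set S) := by
    intro y hy
    set St := (centralizer ({y} : Set S)).subgroupOf P with hSt
    have hle : St.index ≤ 16 := (PGroupRank.relIndex_centralizer_le P U y fun s hs =>
      mul_mem (inv_mem hy) ((mem_normalizer_iff.mp (hPU hs) y).mp hy)).trans hUcard
    obtain ⟨n, hn⟩ := hP.index St
    have hn1 : n ≤ 1 := by
      by_contra hn2
      have : p ^ 2 ≤ p ^ n := Nat.pow_le_pow_right hp.out.pos (by omega)
      nlinarith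
    refine ⟨?_, fun g hg g' hg' => ?_⟩
    · show St.index ≤ p
      rw [hn]
      exact (Nat.pow_le_pow_right hp.out.pos hn1).trans (pow_one p).le
    · have hn' : St.Normal ∧ commutator P ≤ St := by
        interval_cases n
        · have htop : St = ⊤ := index_eq_one.mp (by simpa using hn)
          rw [htop]
          exact ⟨inferInstance, le_top⟩
        · have hi : St.index = p := by simpa using hn
          have hne : Nat.card P ≠ 1 := fun e => by
            have := St.index_dvd_card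
            rw [e, hi] at this
            exact hp.out.ne_one (Nat.dvd_one.mp this)
          obtain ⟨m, hm⟩ := IsPGroup.iff_card.mp hP
          haveI hnorm : St.Normal := normal_of_index_eq_minFac_card (by
            rw [hi, hm, Nat.pow_minFac (by rintro rfl; exact hne (by simpa using hm)),
              hp.out.minFac_eq])
          refine ⟨hnorm, ?_⟩
          haveI : IsCyclic (P ⧸ St) := isCyclic_of_prime_card (p := p) (by rw [← index_eq_card, hi])
          rw [_root_.commutator_def, commutator_le]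
          intro a _ b _
          rw [← QuotientGroup.eq_one_iff, ← QuotientGroup.mk'_apply, map_commutatorElement,
            commutatorElement_eq_one_iff_mul_comm]
          exact (IsCyclic.isMulCommutative (α := P ⧸ St)).is_comm.comm _ _
      exact mem_subgroupOf.mp (hn'.2 (commutator_mem_commutator (mem_top (⟨g, hg⟩ : P))
        (mem_top (⟨g', hg'⟩ : P))))
  have habel : ∀ g ∈ P, ∀ x ∈ P, x⁻¹ * (g * x * g⁻¹) ∈ centralizer (U : Set S) := by
    intro g hg x hx
    refine mem_centralizer_iff.mpr fun y hy => ?_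
    rw [show x⁻¹ * (g * x * g⁻¹) = ⁅x⁻¹, g⁆ by rw [commutatorElement_def]; group]
    exact (mem_centralizer_singleton_iff.mp ((hstab y hy).2 _ (inv_mem hx) g hg)).symm
  -- the stabiliser of a nontrivial point is the kernel
  have hker' : E ⊓ centralizer ({u} : Set S) ≤ E ⊓ centralizer (V : Set S) := by
    intro g hg
    refine mem_inf.mpr ⟨hg.1, mem_centralizer_iff.mpr fun v hv => ?_⟩
    by_contra hne
    refine hu1 (hfpf g (hE hg.1) (fun hc => hne ?_) (fun x hx => habel x hx g (hE hg.1)) u hu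
      (mem_centralizer_singleton_iff.mp hg.2))
    exact mem_centralizer_iff.mp hc v (hVU hv)
  calc Nat.card E = Nat.card (E ⊓ centralizer ({u} : Set S) : Subgroup S) *
        (E ⊓ centralizer ({u} : Set S)).relIndex E := by
        exact (Coprime.card_mul_relIndex_of_le inf_le_left).symm
    _ ≤ _ := by
        refine Nat.mul_le_mul (card_le_of_le hker') ?_
        rw [inf_relIndex_left]
        exact (Subgroup.relIndex_le_of_le_right hE Subgroup.index_ne_zero_of_finite).trans (hstab u hu).1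

end Cfsg.Agent.SolFour
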