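import Cfsg.Agent.Fusion.RankTwoAut
import Cfsg.Agent.Core.Fitting
import Cfsg.Agent.Core.PCore
import Cfsg.Agent.OddLocal.RankTwoSolvable

/-!
`{3, p}`-groups of `3`-rank at most two with `p ≥ 5` have a normal Sylow `p`-subgroup.
-/

set_option autoImplicit false
set_option linter.style.haveILetI false

namespace Cfsg.Agent.SolFour

open Subgroup Cfsg

universe u

variable {p : ℕ} [hp : Fact p.Prime]

/-- A `p`-automorphism, `p ≥ 5`, of a group of exponent three and order at most nine is trivial. -/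
theorem aut_eq_one_of_small (h5 : 5 ≤ p) {V : Type u} [Group V] [Finite V]
    (hexp : ∀ x : V, x ^ 3 = 1) (hcard : Nat.card V ≤ 9) (b : MulAut V) {k : ℕ}
    (hb : b ^ p ^ k = 1) : b = 1 := by
  haveI : Fact (Nat.Prime 3) := ⟨Nat.prime_three⟩
  have hV : IsPGroup 3 V := fun x => ⟨1, by rw [pow_one]; exact hexp x⟩
  have hP : IsPGroup p (zpowers b) := by
    intro x
    obtain ⟨i, hi⟩ := mem_zpowers_iff.mp x.2
    refine ⟨k, Subtype.ext ?_⟩
    rw [SubgroupClass.coe_pow, ← hi, ← zpow_natCast, ← zpow_mul, mul_comm, zpow_mul, zpow_natCast,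
      hb, one_zpow]
    rfl
  have hmod := hP.card_modEq_card_fixedPoints (α := V)
  let C : Subgroup V := MonoidHom.eqLocus b.toMonoidHom (MonoidHom.id V)
  have hset : Nat.card (MulAction.fixedPoints (zpowers b) V) = Nat.card C := by
    refine Nat.card_congr (Equiv.setCongr ?_)
    ext x
    constructor
    · intro hx
      exact hx ⟨b, mem_zpowers b⟩
    · intro hx g
      obtain ⟨i, hi⟩ := mem_zpowers_iff.mp g.2
      show (g : MulAut V) x = x
      have h1 : b ∈ MulAction.stabilizer (MulAut V) x := MulAction.mem_stabilizer_iff.mpr hx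
      have h2 := MulAction.mem_stabilizer_iff.mp (zpow_mem h1 i)
      rw [hi] at h2
      exact h2
  rw [hset] at hmod
  have hC : C = ⊤ := by
    refine eq_top_of_card_eq _ ?_
    obtain ⟨i, hi⟩ := IsPGroup.iff_card.mp hV
    obtain ⟨j, hj, e⟩ := (Nat.dvd_prime_pow Nat.prime_three).mp (hi ▸ C.card_subgroup_dvd_card)
    rw [hi, e] at hmod ⊢
    rw [hi] at hcard
    have hi2 : i ≤ 2 := (Nat.pow_le_pow_iff_right (show 1 < 3 by norm_num)).mp (by simpa using hcard)
    have key : ∀ {a c : ℕ}, c < a → a - c ∈ ({2, 6, 8} : Finset ℕ) → a ≡ c [MOD p] → False := by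
      intro a c hca hd hm
      have h1 : p ∣ a - c := (Nat.modEq_iff_dvd' hca.le).mp hm.symm
      simp only [Finset.mem_insert, Finset.mem_singleton] at hd
      rcases hd with e | e | e <;> rw [e] at h1
      · exact absurd (Nat.le_of_dvd (by norm_num) h1) (by omega)
      · rcases ((Nat.Prime.dvd_mul hp.out).mp (show p ∣ 2 * 3 from h1)) with h | h <;>
          exact absurd (Nat.le_of_dvd (by norm_num) h) (by omega)
      · exact absurd (Nat.le_of_dvd (by norm_num) (hp.out.dvd_of_dvd_pow (show p ∣ 2 ^ 3 from h1)))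
          (by omega)
    interval_cases i <;> interval_cases j <;> first | rfl | exact (key (by norm_num) (by decide) hmod).elim
  refine MulEquiv.ext fun x => ?_
  have h1 : x ∈ C := hC ▸ mem_top x
  exact h1

/-- A `p`-element, `p ≥ 5`, normalising a `3`-group of rank at most two centralises it. -/
theorem centralizes_of_rank_le_two (h5 : 5 ≤ p) {G : Type u} [Group G] [Finite G] {T : Subgroup G}
    (hT : IsPGroup 3 T) (hr : PRankLE 3 2 T) {g : G} (hg : g ∈ normalizer (T : Set G)) {k : ℕ}
    (hgk : g ^ p ^ k = 1) : g ∈ centralizer (T : Set G) := by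
  haveI : Fact (Nat.Prime 3) := ⟨Nat.prime_three⟩
  obtain ⟨V, _, _, -, hexp, hcard, ρ, hρ⟩ := Fusion.exists_rank_two_action (by decide) hT hr
  set a := T.normalizerMonoidHom ⟨g, hg⟩ with ha
  have hak : a ^ p ^ k = 1 := by
    rw [ha, ← map_pow, show (⟨g, hg⟩ : normalizer (T : Set G)) ^ p ^ k = 1 from Subtype.ext hgk,
      map_one]
  have hcop : (orderOf a).Coprime 3 :=
    Nat.Coprime.coprime_dvd_left (orderOf_dvd_of_pow_eq_one hak)
      (Nat.Coprime.pow_left k ((Nat.coprime_primes hp.out Nat.prime_three).mpr (by omega)))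
  have h1 := hρ a hcop (aut_eq_one_of_small h5 hexp hcard (ρ a) (k := k)
    (by rw [← map_pow, hak, map_one]))
  rw [mem_centralizer_iff]
  intro t ht
  have h2 : g * t * g⁻¹ = t := congrArg Subtype.val (DFunLike.congr_fun h1 (⟨t, ht⟩ : T))
  exact (mul_inv_eq_iff_eq_mul.mp h2).symm

/-- A solvable `{3, p}`-group of `3`-rank at most two, `p ≥ 5`, has a normal Sylow `p`-subgroup. -/
theorem le_pCore_of_rank_le_two (h5 : 5 ≤ p) {G : Type u} [Group G] [Finite G]
    [Group.IsSolvable G] {a b : ℕ} (hcard : Nat.card G = 3 ^ a * p ^ b) (hr : PRankLE 3 2 G)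
    {g : G} {k : ℕ} (hgk : g ^ p ^ k = 1) : g ∈ pCore p G := by
  haveI : Fact (Nat.Prime 3) := ⟨Nat.prime_three⟩
  set N := pCore p G with hN
  set f := QuotientGroup.mk' N with hf
  set R := pCore 3 (G ⧸ N) with hR
  have hRp : IsPGroup 3 R := Core.pCore_isPGroup
  have hNp : IsPGroup p N := Core.pCore_isPGroup
  have hRn : R.Normal := by rw [hR]; infer_instance
  have hfit : centralizer (R : Set (G ⧸ N)) ≤ R := by
    have h1 : fittingSubgroup (G ⧸ N) ≤ R := by
      rw [Core.fittingSubgroup_eq_iSup_pCore]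
      refine iSup_le fun r => ?_
      haveI : Fact (r : ℕ).Prime := ⟨r.2⟩
      by_cases hdvd : (r : ℕ) ∣ Nat.card G
      · rw [hcard] at hdvd
        rcases r.2.dvd_mul.mp hdvd with h | h
        · rw [(Nat.prime_dvd_prime_iff_eq r.2 Nat.prime_three).mp (r.2.dvd_of_dvd_pow h)]
        · rw [(Nat.prime_dvd_prime_iff_eq r.2 hp.out).mp (r.2.dvd_of_dvd_pow h)]
          exact (Core.pCore_quotient_eq_bot (p := p) (G := G)).le.trans bot_le
      · have h2 : pCore (r : ℕ) (G ⧸ N) = ⊥ := by
          by_contra hne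
          obtain ⟨n, hn0, hn⟩ := (Core.pCore_isPGroup (p := (r : ℕ)) (G := G ⧸ N)).nontrivial_iff_card.mp
            ((nontrivial_iff_ne_bot _).mpr hne)
          exact hdvd (((dvd_pow_self _ hn0.ne').trans hn.symm.dvd).trans
            ((card_subgroup_dvd_card _).trans (card_quotient_dvd_card N)))
        rw [h2]
        exact bot_le
    exact (centralizer_le h1).trans (Core.centralizer_fittingSubgroup_le.trans h1)
  -- a Sylow `3`-subgroup of the preimage maps onto `R`
  set L := R.comap f with hL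
  haveI hLn : L.Normal := hRn.comap f
  obtain ⟨T⟩ : Nonempty (Sylow 3 L) := inferInstance
  have hTR : (T : Subgroup L).map (f.subgroupComap R) = ⊤ := by
    have hs : Function.Surjective (f.subgroupComap R) :=
      f.subgroupComap_surjective_of_surjective R (QuotientGroup.mk'_surjective N)
    have h2 := (T.mapSurjective hs).3 (Q := ⊤) (hRp.of_equiv Subgroup.topEquiv.symm) le_top
    rw [← T.coe_mapSurjective hs]
    exact h2.symm
  set T' := (T : Subgroup L).map L.subtype with hT'
  have hT'p : IsPGroup 3 T' := T.isPGroup'.map L.subtype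
  have hTr : PRankLE 3 2 T' := OddLocal.pRankLE_of_injective T'.subtype T'.subtype_injective hr
  have hsup : normalizer (T' : Set G) ⊔ L = ⊤ := Sylow.normalizer_sup_eq_top T
  -- the image of a `p`-element of the normaliser is trivial
  have key : ∀ x ∈ normalizer (T' : Set G), ∀ j, x ^ p ^ j = 1 → f x = 1 := by
    intro x hx j hxj
    have hc := centralizes_of_rank_le_two h5 hT'p hTr hx hxj
    have hxR : f x ∈ R := by
      refine hfit (mem_centralizer_iff.mpr fun y hy => ?_)
      obtain ⟨t, ht, e⟩ := (hTR.ge (mem_top (⟨y, hy⟩ : R)) :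
        (⟨y, hy⟩ : R) ∈ (T : Subgroup L).map (f.subgroupComap R))
      rw [show y = f (t : G) from (congrArg Subtype.val e).symm, ← map_mul, ← map_mul,
        show (t : G) * x = x * (t : G) from mem_centralizer_iff.mp hc _ ⟨t, ht, rfl⟩]
    obtain ⟨i, hi⟩ := IsPGroup.iff_orderOf.mp hRp ⟨f x, hxR⟩
    refine orderOf_eq_one_iff.mp (Nat.eq_one_of_dvd_coprimes (a := 3 ^ i) (b := p ^ j)
      (Nat.Coprime.pow _ _ ((Nat.coprime_primes Nat.prime_three hp.out).mpr (by omega))) ?_
      (orderOf_dvd_of_pow_eq_one (by rw [← map_pow, hxj, map_one])))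
    rw [← hi, orderOf_mk]
  rw [hN, ← QuotientGroup.eq_one_iff (N := pCore p G)]
  change f g = 1
  obtain ⟨x, hx, l, hl, hxl⟩ := mem_sup_of_normal_right.mp (hsup.ge (mem_top g))
  obtain ⟨t, ht, e⟩ := (hTR.ge (mem_top (⟨f l, hl⟩ : R)) :
    (⟨f l, hl⟩ : R) ∈ (T : Subgroup L).map (f.subgroupComap R))
  set y := x * (t : G) with hy
  have hyN : y ∈ normalizer (T' : Set G) := mul_mem hx (le_normalizer ⟨t, ht, rfl⟩)
  have hfy : f y = f g := by
    rw [hy, ← hxl, map_mul, map_mul, show f l = f (t : G) from (congrArg Subtype.val e).symm]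
  have hy3 : f (y ^ 3 ^ a) = 1 := by
    refine key _ (pow_mem hyN _) b ?_
    rw [← pow_mul, ← hcard]
    exact pow_card_eq_one'
  rw [map_pow, hfy] at hy3
  refine orderOf_eq_one_iff.mp (Nat.eq_one_of_dvd_coprimes (a := 3 ^ a) (b := p ^ k)
    (Nat.Coprime.pow _ _ ((Nat.coprime_primes Nat.prime_three hp.out).mpr (by omega)))
    (orderOf_dvd_of_pow_eq_one hy3)
    (orderOf_dvd_of_pow_eq_one (by rw [← map_pow, hgk, map_one])))

end Cfsg.Agent.SolFour
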