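import Cfsg.Agent.SolFour.CaseA
import Cfsg.Agent.SolFour.CaseB
import Cfsg.Agent.SolFour.RankTwoThree
import Cfsg.Agent.OddLocal.NormalElementary
import Cfsg.Agent.Core.Hall

/-!
A cyclic `3`-subgroup moving a four-group in a solvable group of `p`-rank three.
-/

set_option autoImplicit false
set_option linter.style.haveILetI false

namespace Cfsg.Agent.SolFour

open Subgroup Cfsg
open scoped Pointwise

universe u

variable {S : Type u} [Group S] [Finite S]

/-- Trimming an elementary abelian group to order `r ^ 3`. -/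
theorem exists_trim {r : ℕ} [hr : Fact r.Prime] {F₀ D Z : Subgroup S} (hF : IsElementaryAbelian r F₀)
    (h3 : r ^ 3 ≤ Nat.card F₀) (hD : D ≤ F₀) (hDZ : D ≤ Z) (h2 : r ^ 2 ≤ Nat.card D) :
    ∃ F : Subgroup S, IsElementaryAbelian r F ∧ Nat.card F = r ^ 3 ∧
      ¬ IsCyclic ↥(F ⊓ Z) := by
  obtain ⟨D', hD'D, hD'c⟩ := Coprime.ea_exists_le_card h2 (Coprime.ea_mono hF hD)
  have hdvd : r ^ 3 ∣ Nat.card F₀ := by
    obtain ⟨i, hi⟩ := Coprime.ea_card hF
    rw [hi] at h3 ⊢
    exact pow_dvd_pow _ ((Nat.pow_le_pow_iff_right hr.out.one_lt).mp h3)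
  obtain ⟨K, hK, hDK⟩ := Sylow.exists_subgroup_card_pow_prime_le r hdvd (D'.subgroupOf F₀)
    (n := 2) (by rw [Coprime.card_subgroupOf (hD'D.trans hD), hD'c]) (by norm_num)
  refine ⟨K.map F₀.subtype, Coprime.ea_mono hF (map_subtype_le K),
    (card_map_of_injective F₀.subtype_injective).trans hK, ?_⟩
  have hle : D' ≤ K.map F₀.subtype ⊓ Z := by
    refine le_inf (fun x hx => ⟨⟨x, hD (hD'D hx)⟩, hDK hx, rfl⟩) (hD'D.trans hDZ)
  exact Coprime.ea_not_isCyclic (Coprime.ea_mono hF (inf_le_left.trans (map_subtype_le K)))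
    (hD'c ▸ card_le_of_le hle)

theorem main [Group.IsSolvable S] (M : Subgroup S) [M.Normal] (hM : IsElementaryAbelian 2 M)
    (p : ℕ) (hp : p.Prime) (hp2 : p ≠ 2) (E : Subgroup S) (hE : IsElementaryAbelian p E)
    (hE3 : Nat.card ↥E = p ^ 3) (Q : Subgroup S) (hQc : IsCyclic ↥Q) (hQ3 : IsPGroup 3 ↥Q)
    (hQ1 : ∀ x ∈ Q, x ^ 3 ∈ centralizer (M : Set S)) (hQM : Nat.card ↥⁅Q, M⁆ = 4) :
    ∃ (r : ℕ) (F : Subgroup S), r.Prime ∧ r ≠ 2 ∧ IsElementaryAbelian r F ∧ Nat.card ↥F = r ^ 3 ∧
      ¬ IsCyclic ↥(F ⊓ centralizer ((⁅Q, M⁆ : Subgroup S) : Set S)) := by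
  haveI := Fact.mk hp
  haveI : Fact (Nat.Prime 3) := ⟨Nat.prime_three⟩
  obtain ⟨q, rfl⟩ := (Subgroup.isCyclic_iff_exists_zpowers_eq_top Q).mp hQc
  have h : Ctx M q := ⟨inferInstance, hM, hQ3, hQ1 q (mem_zpowers q), hQM⟩
  by_cases hA : PRankLE 3 2 S
  · -- `3`-rank at most two
    have h5 : 5 ≤ p := by
      have hp3 : p ≠ 3 := by
        rintro rfl
        have := hA E hE.1 hE.2
        rw [hE3] at this
        norm_num at this
      have := hp.two_le
      rcases Nat.lt_or_ge p 5 with hlt | hge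
      · interval_cases p
        · exact absurd rfl hp2
        · exact absurd rfl hp3
        · exact absurd hp (by norm_num)
      · exact hge
    set a := (Nat.card S).factorization 3 with ha
    set r1 := Nat.card S / 3 ^ a with hr1
    set b := r1.factorization p with hb
    set r2 := r1 / p ^ b with hr2
    have hr1pos : r1 ≠ 0 := (Nat.ordCompl_pos 3 Nat.card_pos.ne').ne'
    have hn : Nat.card S = 3 ^ a * p ^ b * r2 := by
      rw [mul_assoc, hr2, hb, Nat.ordProj_mul_ordCompl_eq_self, hr1, ha,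
        Nat.ordProj_mul_ordCompl_eq_self]
    have hnp : ¬ p ∣ r2 := Nat.not_dvd_ordCompl hp hr1pos
    have hn3 : ¬ 3 ∣ r2 := fun hd => Nat.not_dvd_ordCompl Nat.prime_three (Nat.card_pos (α := S)).ne'
      (hd.trans (Nat.div_dvd_of_dvd (Nat.ordProj_dvd r1 p)))
    have hcop : (3 ^ a * p ^ b).Coprime r2 :=
      Nat.Coprime.mul_left ((Nat.prime_three.coprime_iff_not_dvd.mpr hn3).pow_left a)
        ((hp.coprime_iff_not_dvd.mpr hnp).pow_left b)
    obtain ⟨K₀, hK₀⟩ := Core.exists_hall hn hcop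
    obtain ⟨g₁, hg₁⟩ := Core.exists_le_conj_hall hn hcop hK₀ (K := zpowers q) (by
      obtain ⟨i, hi⟩ := IsPGroup.iff_card.mp hQ3
      rw [hi]
      exact (Nat.prime_three.coprime_iff_not_dvd.mpr hn3).pow_left i)
    obtain ⟨g₂, hg₂⟩ := Core.exists_le_conj_hall hn hcop hK₀ (K := E) (by
      rw [hE3]
      exact (hp.coprime_iff_not_dvd.mpr hnp).pow_left 3)
    set K := MulAut.conj g₁ • K₀ with hK
    set E' := MulAut.conj (g₁ * g₂⁻¹) • E with hE'
    have hE'K : E' ≤ K := by
      rw [hE', Coprime.conj_mul_smul, hK]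
      refine Subgroup.pointwise_smul_le_pointwise_smul_iff.mpr ?_
      have := (Subgroup.pointwise_smul_le_pointwise_smul_iff (a := MulAut.conj g₂⁻¹)).mpr hg₂
      rwa [← Coprime.conj_mul_smul g₂⁻¹ g₂, inv_mul_cancel, map_one, one_smul] at this
    have hE'e : IsElementaryAbelian p E' := by
      haveI := hE.1
      rw [hE', Coprime.conj_smul_eq_map]
      refine ⟨Subgroup.map_isMulCommutative E _, ?_⟩
      rintro _ ⟨x, hx, rfl⟩
      rw [← map_pow, hE.2 x hx, map_one]
    have hE'c : Nat.card E' = p ^ 3 := by rw [hE', Coprime.card_conj_smul, hE3]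
    have hKc : Nat.card K = 3 ^ a * p ^ b := by rw [hK, Coprime.card_conj_smul, hK₀]
    haveI : Group.IsSolvable K := inferInstance
    have hKr : PRankLE 3 2 K := OddLocal.pRankLE_of_injective K.subtype K.subtype_injective hA
    set P := (pCore p K).map K.subtype with hP
    have hPp : IsPGroup p P := (Core.pCore_isPGroup).map _
    have hE'P : E' ≤ P := fun x hx => by
      refine ⟨⟨x, hE'K hx⟩, le_pCore_of_rank_le_two h5 hKc hKr (k := 1) ?_, rfl⟩
      exact Subtype.ext (by rw [pow_one, SubgroupClass.coe_pow]; exact hE'e.2 x hx)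
    have hqP : q ∈ normalizer (P : Set S) := by
      have hqK : q ∈ K := hg₁ (mem_zpowers q)
      have := mem_map_of_mem K.subtype
        (show (⟨q, hqK⟩ : K) ∈ normalizer ((pCore p K : Subgroup K) : Set K) by
          rw [normalizer_eq_top]; trivial)
      exact le_normalizer_map K.subtype this
    have h1 := h.relIndex_centralizer_le h5 hPp hqP hE'P
    rw [hE'c] at h1
    have h2 : p ^ 2 ≤ Nat.card (E' ⊓ centralizer ((⁅zpowers q, M⁆ : Subgroup S) : Set S) :
        Subgroup S) := by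
      rw [pow_succ] at h1
      exact Nat.le_of_mul_le_mul_right h1 hp.pos
    obtain ⟨F, hF⟩ := exists_trim hE'e hE'c.ge inf_le_left inf_le_right h2
    exact ⟨p, F, hp, hp2, hF⟩
  · -- `3`-rank at least three
    simp only [PRankLE] at hA
    push Not at hA
    obtain ⟨A, hAc, hAp, hAcard⟩ := hA
    obtain ⟨P, hP⟩ := hQ3.exists_le_sylow
    have hAe : IsElementaryAbelian 3 A := ⟨hAc, hAp⟩
    obtain ⟨P₁, hP₁⟩ := (Coprime.ea_isPGroup hAe).exists_le_sylow
    obtain ⟨g, hg⟩ := MulAction.exists_smul_eq S P₁ P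
    have hnr : ¬ PRankLE 3 2 ↥(P : Subgroup S) := by
      intro hr
      have hA'P : MulAut.conj g • A ≤ (P : Subgroup S) := by
        rw [← hg, Sylow.coe_subgroup_smul]
        exact Subgroup.pointwise_smul_le_pointwise_smul_iff.mpr hP₁
      haveI := hAc
      have h1 := hr ((MulAut.conj g • A).subgroupOf P) (by
          rw [Coprime.conj_smul_eq_map]
          haveI := Subgroup.map_isMulCommutative A (MulAut.conj g).toMonoidHom
          exact ⟨⟨fun x y => Subtype.ext (Subtype.ext (congrArg Subtype.val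
            ((Subgroup.map_isMulCommutative A (MulAut.conj g).toMonoidHom).is_comm.comm
              ⟨_, x.2⟩ ⟨_, y.2⟩) :))⟩⟩) (fun x hx => by
          obtain ⟨y, hy, e⟩ := (Coprime.conj_smul_eq_map g A).le (mem_subgroupOf.mp hx)
          refine Subtype.ext ?_
          rw [SubgroupClass.coe_pow, ← e, ← map_pow, hAp y hy, map_one]
          rfl)
      rw [Coprime.card_subgroupOf hA'P, Coprime.card_conj_smul] at h1
      omega
    obtain ⟨F', hF'n, hF'e, hF'c, -⟩ :=
      OddLocal.exists_normal_elementary_omega P.isPGroup' (by decide) hnr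
    set F₀ := F'.map (P : Subgroup S).subtype with hF₀
    have hF₀e : IsElementaryAbelian 3 F₀ := by
      haveI := hF'e.1
      refine ⟨Subgroup.map_isMulCommutative F' _, ?_⟩
      rintro _ ⟨x, hx, rfl⟩
      rw [← map_pow, hF'e.2 x hx, map_one]
    have hF₀c : 3 ^ 3 ≤ Nat.card F₀ := by
      rw [hF₀, card_map_of_injective (P : Subgroup S).subtype_injective]
      exact hF'c
    have hqF : q ∈ normalizer (F₀ : Set S) := by
      have := mem_map_of_mem (P : Subgroup S).subtype
        (show (⟨q, hP (mem_zpowers q)⟩ : (P : Subgroup S)) ∈ normalizer (F' : Set _) by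
          rw [normalizer_eq_top]; trivial)
      exact le_normalizer_map (P : Subgroup S).subtype this
    obtain ⟨H, hHF, hHC, hHc⟩ := h.exists_hyperplane (r := 3) (by decide) hF₀e (fun e => by
      rw [e, card_bot] at hF₀c; norm_num at hF₀c) hqF
    obtain ⟨F, hF⟩ := exists_trim hF₀e hF₀c hHF hHC (by
      have := hF₀c.trans hHc
      omega)
    exact ⟨3, F, Nat.prime_three, by decide, hF⟩

end Cfsg.Agent.SolFour
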