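import Mathlib.GroupTheory.PGroup
import Mathlib.GroupTheory.Commutator.Basic
import Cfsg.Agent.Coprime.Basic
import Cfsg.Agent.Coprime.Tools
import Cfsg.Agent.Coprime.Elementary

/-!
A `3`-element whose commutator subgroup with a normal elementary abelian `2`-subgroup is a
four-group: basic facts.
-/

set_option autoImplicit false
set_option linter.style.haveILetI false

namespace Cfsg.Agent.SolFour

open Subgroup Cfsg
open scoped commutatorElement

universe u

variable {S : Type u} [Group S]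

/-- The standing hypothesis. -/
structure Ctx (M : Subgroup S) (q : S) : Prop where
  normal : M.Normal
  elem : IsElementaryAbelian 2 M
  three : IsPGroup 3 (zpowers q)
  cube : q ^ 3 ∈ centralizer (M : Set S)
  four : Nat.card (⁅zpowers q, M⁆ : Subgroup S) = 4

variable {M : Subgroup S} {q : S}

theorem Ctx.comm (h : Ctx M q) {a b : S} (ha : a ∈ M) (hb : b ∈ M) : a * b = b * a :=
  Coprime.ea_comm h.elem ha hb

theorem Ctx.conj_mem (h : Ctx M q) {a : S} (ha : a ∈ M) (g : S) : g * a * g⁻¹ ∈ M :=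
  h.normal.conj_mem a ha g

theorem Ctx.le_normalizer (h : Ctx M q) (A : Subgroup S) : A ≤ normalizer (M : Set S) := by
  haveI := h.normal
  rw [normalizer_eq_top]
  exact le_top

theorem Ctx.le_M (h : Ctx M q) : ⁅zpowers q, M⁆ ≤ M := by
  haveI := h.normal
  exact commutator_le_right _ _

theorem Ctx.comm_mem (h : Ctx M q) {a : S} (ha : a ∈ M) : ⁅q, a⁆ ∈ ⁅zpowers q, M⁆ :=
  commutator_mem_commutator (mem_zpowers q) ha

theorem Ctx.comm_mul (h : Ctx M q) {a b : S} (ha : a ∈ M) (hb : b ∈ M) :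
    ⁅q, a * b⁆ = ⁅q, a⁆ * ⁅q, b⁆ := by
  have h1 : ⁅q, b⁆ ∈ M := h.le_M (h.comm_mem hb)
  calc ⁅q, a * b⁆ = ⁅q, a⁆ * (a * ⁅q, b⁆ * a⁻¹) := by simp only [commutatorElement_def]; group
    _ = ⁅q, a⁆ * ⁅q, b⁆ := by rw [h.comm ha h1, mul_inv_cancel_right]

/-- The homomorphism `a ↦ ⁅q, a⁆` on a subgroup of `M`. -/
def Ctx.delta (h : Ctx M q) {U : Subgroup S} (hU : U ≤ M) :
    U →* (⁅zpowers q, M⁆ : Subgroup S) where
  toFun u := ⟨⁅q, (u : S)⁆, h.comm_mem (hU u.2)⟩
  map_one' := Subtype.ext (by simp)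
  map_mul' u v := Subtype.ext (h.comm_mul (hU u.2) (hU v.2))

variable [Finite S]

theorem Ctx.card_M (h : Ctx M q) : ∃ k, Nat.card M = 2 ^ k := by
  haveI : Fact (Nat.Prime 2) := ⟨Nat.prime_two⟩
  exact Coprime.ea_card h.elem

theorem Ctx.coprime (h : Ctx M q) {r : ℕ} [hr : Fact r.Prime] (hr2 : r ≠ 2) {A : Subgroup S}
    (hA : IsPGroup r A) {U : Subgroup S} (hU : U ≤ M) : (Nat.card A).Coprime (Nat.card U) := by
  obtain ⟨k, hk⟩ := h.card_M
  obtain ⟨l, hl⟩ := IsPGroup.iff_card.mp hA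
  refine Nat.Coprime.coprime_dvd_right (card_dvd_of_le hU) ?_
  rw [hl, hk]
  exact Nat.Coprime.pow _ _ ((Nat.coprime_primes hr.out Nat.prime_two).mpr hr2)

/-- `q` has no nontrivial fixed points on the four-group. -/
theorem Ctx.fixed_eq_one (h : Ctx M q) {v : S} (hv : v ∈ ⁅zpowers q, M⁆) (hfix : Commute q v) :
    v = 1 := by
  haveI := h.elem.1
  haveI : Fact (Nat.Prime 3) := ⟨Nat.prime_three⟩
  have hcop := h.coprime (by decide) h.three (le_refl M)
  have h1 := Coprime.centralizer_inf_commutator_eq_bot (h.le_normalizer _) hcop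
  rw [← mem_bot, ← h1]
  refine mem_inf.mpr ⟨mem_inf.mpr ⟨h.le_M hv, mem_centralizer_iff.mpr ?_⟩,
    commutator_comm (zpowers q) M ▸ hv⟩
  intro x hx
  obtain ⟨i, rfl⟩ := mem_zpowers_iff.mp hx
  exact (hfix.zpow_left i).eq

theorem Ctx.exists_ne (h : Ctx M q) : ∃ v ∈ ⁅zpowers q, M⁆, v ≠ 1 := by
  by_contra hc
  push Not at hc
  have h1 : ⁅zpowers q, M⁆ = ⊥ := (eq_bot_iff_forall _).mpr hc
  have h2 := h.four
  rw [h1, card_bot] at h2
  omega

/-- A subgroup of `M` normalised but not centralised by `q` contains the four-group. -/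
theorem Ctx.le_of_invariant (h : Ctx M q) {U : Subgroup S} (hUM : U ≤ M)
    (hUq : ∀ u ∈ U, q * u * q⁻¹ ∈ U) {u : S} (hu : u ∈ U) (hne : ¬ Commute q u) :
    ⁅zpowers q, M⁆ ≤ U := by
  set V := ⁅zpowers q, M⁆ with hV
  have hv : ⁅q, u⁆ ∈ U ⊓ V :=
    mem_inf.mpr ⟨by rw [commutatorElement_def]; exact mul_mem (hUq u hu) (inv_mem hu),
      h.comm_mem (hUM hu)⟩
  set v := ⁅q, u⁆ with hvdef
  have hv1 : v ≠ 1 := fun e => hne (commutatorElement_eq_one_iff_mul_comm.mp e)
  have hv' : q * v * q⁻¹ ∈ U ⊓ V := by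
    refine ⟨hUq _ hv.1, ?_⟩
    have h2 : q * v * q⁻¹ = ⁅q, v⁆ * v := by rw [commutatorElement_def]; group
    rw [h2]
    exact mul_mem (h.comm_mem (h.le_M hv.2)) hv.2
  have hne2 : q * v * q⁻¹ ≠ v := fun e =>
    hv1 (h.fixed_eq_one hv.2 (mul_inv_eq_iff_eq_mul.mp e))
  have hne3 : q * v * q⁻¹ ≠ 1 := fun e => hv1 (conj_eq_one_iff.mp e)
  have h3 : 2 < Nat.card (U ⊓ V : Subgroup S) := by
    refine lt_of_lt_of_le ?_ (le_of_eq_of_le rfl (Nat.card_mono (s := ({1, v, q * v * q⁻¹} : Set S))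
      (Set.toFinite _) ?_))
    · rw [Nat.card_coe_set_eq, Set.ncard_insert_of_notMem, Set.ncard_pair hne2.symm]
      · norm_num
      · simp only [Set.mem_insert_iff, Set.mem_singleton_iff, not_or]
        exact ⟨hv1.symm, hne3.symm⟩
    · rintro x (rfl | rfl | rfl)
      · exact one_mem _
      · exact hv
      · exact hv'
  have h4 : Nat.card (U ⊓ V : Subgroup S) ∣ 4 := h.four ▸ card_dvd_of_le inf_le_right
  have h5 : Nat.card V ≤ Nat.card (U ⊓ V : Subgroup S) := by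
    rw [hV, h.four]
    obtain ⟨i, hi, e⟩ := (Nat.dvd_prime_pow Nat.prime_two).mp (show _ ∣ 2 ^ 2 from h4)
    rw [e] at h3 ⊢
    interval_cases i <;> omega
  exact (eq_of_le_of_card_ge inf_le_right h5) ▸ inf_le_left

/-- Every element of the four-group is a commutator with an element of it. -/
theorem Ctx.exists_comm_eq (h : Ctx M q) {v : S} (hv : v ∈ ⁅zpowers q, M⁆) :
    ∃ w ∈ ⁅zpowers q, M⁆, ⁅q, w⁆ = v := by
  have hinj : Function.Injective (h.delta h.le_M) := by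
    rw [injective_iff_map_eq_one]
    intro w hw
    exact Subtype.ext (h.fixed_eq_one w.2
      (commutatorElement_eq_one_iff_mul_comm.mp (congrArg Subtype.val hw)))
  obtain ⟨w, hw⟩ := (Finite.injective_iff_surjective.mp hinj) ⟨v, hv⟩
  exact ⟨w, w.2, congrArg Subtype.val hw⟩

/-- If `q` centralises `⁅M, R⁆` then `R` centralises the four-group. -/
theorem Ctx.le_centralizer_of_fix (h : Ctx M q) {r : ℕ} [Fact r.Prime] (hr2 : r ≠ 2)
    {R : Subgroup S} (hR : IsPGroup r R) (hqR : q ∈ normalizer (R : Set S))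
    (hfix : ∀ w ∈ ⁅M, R⁆, Commute q w) :
    R ≤ centralizer ((⁅zpowers q, M⁆ : Subgroup S) : Set S) := by
  haveI := h.elem.1
  have hdec := (Coprime.abelian_decomposition (h.le_normalizer R) (h.coprime hr2 hR le_rfl)).2
  refine le_centralizer_iff.mp ((commutator_le).mpr fun a ha m hm => ?_)
  obtain ⟨i, rfl⟩ := mem_zpowers_iff.mp ha
  have hN : M ⊓ centralizer (R : Set S) ≤ normalizer ((⁅M, R⁆ : Subgroup S) : Set S) :=
    inf_le_left.trans (le_sup_left.trans Coprime.le_normalizer_commutator)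
  rw [← hdec, sup_comm] at hm
  obtain ⟨w, hw, c, hc, rfl⟩ := (Coprime.mem_sup_of_le_normalizer hN).mp hm
  have hcw : w * c = c * w := h.comm (Coprime.commutator_le_of_le_normalizer (h.le_normalizer R) hw) hc.1
  have e : ⁅q ^ i, w * c⁆ = q ^ i * c * (q ^ i)⁻¹ * c⁻¹ := by
    have h1 : q ^ i * w * (q ^ i)⁻¹ = w := by
      rw [((hfix w hw).zpow_left i).eq, mul_inv_cancel_right]
    calc ⁅q ^ i, w * c⁆ = q ^ i * c * (q ^ i)⁻¹ * (q ^ i * w * (q ^ i)⁻¹) * (c * w)⁻¹ := by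
          rw [hcw, commutatorElement_def]; group
      _ = _ := by rw [h1]; group
  rw [e]
  refine mul_mem ?_ (inv_mem hc.2)
  have hqC : zpowers q ≤ normalizer ((centralizer (R : Set S) : Subgroup S) : Set S) :=
    Coprime.le_normalizer_centralizer (zpowers_le.mpr hqR)
  exact (mem_normalizer_iff.mp (hqC (zpow_mem (mem_zpowers q) i)) c).mp hc.2

end Cfsg.Agent.SolFour
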