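import Cfsg.Agent.SolFour.Basic
import Cfsg.Agent.Coprime.Generation

/-!
An elementary abelian `r`-group normalised by `q`: some subgroup of index at most `r` centralises
the four-group.
-/

set_option autoImplicit false
set_option linter.style.haveILetI false

namespace Cfsg.Agent.SolFour

open Subgroup Cfsg
open scoped commutatorElement

universe u

variable {S : Type u} [Group S] [Finite S] {M : Subgroup S} {q : S}

omit [Finite S] in
/-- An element normalising both factors normalises their commutator subgroup. -/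
theorem conj_mem_normalizer_commutator {A B : Subgroup S} {g : S}
    (hA : g ∈ normalizer (A : Set S)) (hB : g ∈ normalizer (B : Set S)) :
    g ∈ normalizer ((⁅A, B⁆ : Subgroup S) : Set S) := by
  apply Coprime.mem_normalizer_of_conj_smul_eq
  rw [Coprime.conj_smul_eq_map, map_commutator, ← Coprime.conj_smul_eq_map,
    ← Coprime.conj_smul_eq_map, Coprime.conj_smul_eq_self_of_mem_normalizer hA,
    Coprime.conj_smul_eq_self_of_mem_normalizer hB]

theorem Ctx.exists_hyperplane (h : Ctx M q) {r : ℕ} [hr : Fact r.Prime] (hr2 : r ≠ 2)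
    {F : Subgroup S} (hF : IsElementaryAbelian r F) (hF1 : F ≠ ⊥)
    (hqF : q ∈ normalizer (F : Set S)) :
    ∃ H ≤ F, H ≤ centralizer ((⁅zpowers q, M⁆ : Subgroup S) : Set S) ∧
      Nat.card F ≤ Nat.card H * r := by
  haveI := hF.1
  haveI := h.elem.1
  have hFp := Coprime.ea_isPGroup hF
  set V := ⁅zpowers q, M⁆ with hV
  set W := ⁅M, F⁆ with hW
  by_cases hfix : ∀ w ∈ W, Commute q w
  · exact ⟨F, le_rfl, h.le_centralizer_of_fix hr2 hFp hqF hfix,
      Nat.le_mul_of_pos_right _ hr.out.pos⟩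
  push Not at hfix
  obtain ⟨w, hw, hwq⟩ := hfix
  have hWM : W ≤ M := Coprime.commutator_le_of_le_normalizer (h.le_normalizer F)
  have hFW : F ≤ normalizer (W : Set S) := le_sup_right.trans Coprime.le_normalizer_commutator
  have hW0 : ∀ x ∈ W, x ∈ centralizer (F : Set S) → x = 1 := by
    intro x hx hxc
    rw [← mem_bot, ← Coprime.centralizer_inf_commutator_eq_bot (h.le_normalizer F)
      (h.coprime hr2 hFp le_rfl)]
    exact mem_inf.mpr ⟨mem_inf.mpr ⟨hWM hx, hxc⟩, hx⟩
  have hgen := Coprime.iSup_cocyclic_centralizer_eq hFW (h.coprime hr2 hFp hWM)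
  -- a hyperplane with fixed points not centralised by `q`
  obtain ⟨H, hH, u, hu, huq⟩ : ∃ H, H ∈ Coprime.Cocyclic F ∧
      ∃ u, u ∈ W ⊓ centralizer (H : Set S) ∧ ¬ Commute q u := by
    by_contra hc
    push Not at hc
    have h1 : W ≤ centralizer {q} := by
      conv_lhs => rw [← hgen]
      exact iSup₂_le fun B hB x hx => mem_centralizer_singleton_iff.mpr (hc B hB x hx).symm.eq
    exact hwq (mem_centralizer_singleton_iff.mp (h1 hw)).symm
  obtain ⟨hHF, a, ha, hHa⟩ := hH
  set U := W ⊓ centralizer (H : Set S) with hU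
  have hUM : U ≤ M := inf_le_left.trans hWM
  have hcardF : Nat.card F ≤ Nat.card H * r := by
    have hHn : zpowers a ≤ normalizer (H : Set S) :=
      (zpowers_le.mpr ha).trans ((Coprime.ea_le_centralizer hF).trans
        ((centralizer_le hHF).trans (centralizer_le_normalizer _)))
    calc Nat.card F = Nat.card (H ⊔ zpowers a : Subgroup S) := by rw [hHa]
      _ ≤ Nat.card H * Nat.card (zpowers a) := by
        rw [← SetLike.coe_sort_coe, Subgroup.coe_mul_of_right_le_normalizer_left H _ hHn]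
        exact Set.natCard_mul_le
      _ ≤ Nat.card H * r := by
        refine Nat.mul_le_mul_left _ ?_
        rw [Nat.card_zpowers]
        exact Nat.le_of_dvd hr.out.pos (orderOf_dvd_of_pow_eq_one (hF.2 a ha))
  refine ⟨H, hHF, ?_, hcardF⟩
  -- it suffices that `q` normalises `U`
  suffices hUq : ∀ x ∈ U, q * x * q⁻¹ ∈ U by
    refine le_centralizer_iff.mp ((h.le_of_invariant hUM hUq hu huq).trans inf_le_right)
  have hqW : ∀ x ∈ W, q * x * q⁻¹ ∈ W := by
    intro x hx
    have h1 : q ∈ normalizer (W : Set S) := by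
      rw [hW]
      exact conj_mem_normalizer_commutator (h.le_normalizer (zpowers q) (mem_zpowers q)) hqF
    exact (mem_normalizer_iff.mp h1 x).mp hx
  set H' := H.map (MulAut.conj q).toMonoidHom with hH'
  have hH'mem : ∀ y, y ∈ H' ↔ q⁻¹ * y * q ∈ H := by
    intro y
    rw [hH', mem_map_equiv, MulAut.conj_symm_apply]
  have hconj : ∀ x ∈ U, q * x * q⁻¹ ∈ W ⊓ centralizer (H' : Set S) := by
    intro x hx
    refine mem_inf.mpr ⟨hqW x hx.1, mem_centralizer_iff.mpr fun y hy => ?_⟩
    have h2 := mem_centralizer_iff.mp hx.2 _ ((hH'mem y).mp hy)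
    calc y * (q * x * q⁻¹) = q * ((q⁻¹ * y * q) * x) * q⁻¹ := by group
      _ = q * (x * (q⁻¹ * y * q)) * q⁻¹ := by rw [h2]
      _ = q * x * q⁻¹ * y := by group
  by_cases heq : H' = H
  · intro x hx
    have := hconj x hx
    rwa [heq] at this
  exfalso
  -- `U` and its conjugate are independent
  have hFmax : ∀ B : Subgroup S, B ≤ F → H ≤ B → ¬ B ≤ H → B = F := by
    intro B hBF hHB hne
    refine eq_of_le_of_card_ge hBF ?_
    obtain ⟨i, hi⟩ := IsPGroup.iff_card.mp (hFp.to_le hHF)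
    obtain ⟨j, hj⟩ := IsPGroup.iff_card.mp (hFp.to_le hBF)
    have h2 : i < j := by
      refine (Nat.pow_lt_pow_iff_right hr.out.one_lt).mp ?_
      rw [← hi, ← hj]
      by_contra hle
      exact hne (eq_of_le_of_card_ge hHB (not_lt.mp hle)).ge
    calc Nat.card F ≤ Nat.card H * r := hcardF
      _ = r ^ (i + 1) := by rw [hi, pow_succ]
      _ ≤ r ^ j := Nat.pow_le_pow_right hr.out.pos h2
      _ = Nat.card B := hj.symm
  have hH'F : H' ≤ F := by
    intro y hy
    have h1 := hHF ((hH'mem y).mp hy)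
    have h2 := (mem_normalizer_iff.mp hqF _).mp h1
    simpa [mul_assoc] using h2
  have hcardH' : Nat.card H' = Nat.card H := card_map_of_injective (MulAut.conj q).injective
  have hsup : H ⊔ H' = F := hFmax _ (sup_le hHF hH'F) le_sup_left fun hle =>
    heq (eq_of_le_of_card_ge (le_sup_right.trans hle) hcardH'.ge)
  have hindep : ∀ x, x ∈ U → x ∈ centralizer (H' : Set S) → x = 1 := by
    intro x hx hx'
    refine hW0 x hx.1 ?_
    have h1 : F ≤ centralizer {x} := by
      rw [← hsup]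
      refine sup_le (fun y hy => mem_centralizer_singleton_iff.mpr ?_)
        (fun y hy => mem_centralizer_singleton_iff.mpr ?_)
      · exact mem_centralizer_iff.mp hx.2 y hy
      · exact mem_centralizer_iff.mp hx' y hy
    exact mem_centralizer_iff.mpr fun y hy => mem_centralizer_singleton_iff.mp (h1 hy)
  have hqU : ∀ x ∈ U, q * x * q⁻¹ ∈ U → x = 1 := fun x hx hx' =>
    conj_eq_one_iff.mp (hindep _ hx' (hconj x hx).2)
  have hinj : Function.Injective (h.delta hUM) := by
    rw [injective_iff_map_eq_one]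
    intro x hx
    have h1 : Commute q (x : S) :=
      commutatorElement_eq_one_iff_mul_comm.mp (congrArg Subtype.val hx)
    exact Subtype.ext (hqU x x.2 (by rw [h1.eq, mul_inv_cancel_right]; exact x.2))
  have hu1 : u ≠ 1 := fun e => huq (e ▸ Commute.one_right q)
  have hFU : F ≤ normalizer (U : Set S) := by
    refine Coprime.le_normalizer_inf hFW (Coprime.le_normalizer_centralizer ?_)
    exact (Coprime.ea_le_centralizer hF).trans
      ((centralizer_le hHF).trans (centralizer_le_normalizer _))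
  have hsurj : Function.Surjective (h.delta hUM) := by
    have h4 : Nat.card U ≤ 4 := h.four ▸ Nat.card_le_card_of_injective _ hinj
    obtain ⟨k, hk⟩ := h.card_M
    obtain ⟨i, hi, e⟩ := (Nat.dvd_prime_pow Nat.prime_two).mp (hk ▸ card_dvd_of_le hUM)
    refine ((Nat.bijective_iff_injective_and_card _).mpr ⟨hinj, ?_⟩).2
    rw [h.four]
    rw [e] at h4 ⊢
    have hi2 : i ≤ 2 := (Nat.pow_le_pow_iff_right one_lt_two).mp (by simpa using h4)
    interval_cases i
    · exact absurd ((eq_bot_iff_forall _).mp (Subgroup.card_eq_one.mp (by simpa using e)) u hu) hu1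
    · -- a subgroup of order two would be centralised by `F`
      exfalso
      haveI : Fact (Nat.Prime 2) := ⟨Nat.prime_two⟩
      have h2 : Nat.card U = 2 := by simpa using e
      refine hu1 (hW0 u hu.1 (mem_centralizer_iff.mpr fun y hy => ?_))
      have hy' := (mem_normalizer_iff.mp (hFU hy) u).mp hu
      by_contra hyu
      have h3 : y * u * y⁻¹ ≠ u := fun e' => hyu (mul_inv_eq_iff_eq_mul.mp e')
      have h5 : y * u * y⁻¹ ≠ 1 := fun e' => hu1 (conj_eq_one_iff.mp e')
      obtain ⟨z, -, hz⟩ := (Nat.card_eq_two_iff' (⟨1, one_mem _⟩ : U)).mp h2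
      have e1 := hz ⟨_, hy'⟩ fun e' => h5 (congrArg Subtype.val e')
      have e2 := hz ⟨u, hu⟩ fun e' => hu1 (congrArg Subtype.val e')
      exact h3 (congrArg Subtype.val (e1.trans e2.symm))
    · rfl
  -- the square of `q` moves `u` into `U` times its conjugate
  set H'' := H'.map (MulAut.conj q).toMonoidHom with hH''
  have hH''mem : ∀ y, y ∈ H'' ↔ q⁻¹ * y * q ∈ H' := by
    intro y
    rw [hH'', mem_map_equiv, MulAut.conj_symm_apply]
  have hH''F : H'' ≤ F := by
    intro y hy
    have h1 := hH'F ((hH''mem y).mp hy)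
    have h2 := (mem_normalizer_iff.mp hqF _).mp h1
    simpa [mul_assoc] using h2
  have hcub : ∀ x ∈ M, q ^ 3 * x * (q ^ 3)⁻¹ = x := fun x hx => by
    rw [(mem_centralizer_iff.mp h.cube x hx).symm, mul_inv_cancel_right]
  set u2 := q ^ 2 * u * (q ^ 2)⁻¹ with hu2
  have hu2c : u2 ∈ centralizer (H'' : Set S) := by
    refine mem_centralizer_iff.mpr fun y hy => ?_
    have h2 := mem_centralizer_iff.mp hu.2 _ ((hH'mem _).mp ((hH''mem y).mp hy))
    calc y * u2 = q ^ 2 * ((q⁻¹ * (q⁻¹ * y * q) * q) * u) * (q ^ 2)⁻¹ := by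
          rw [hu2, pow_two]; group
      _ = q ^ 2 * (u * (q⁻¹ * (q⁻¹ * y * q) * q)) * (q ^ 2)⁻¹ := by rw [h2]
      _ = u2 * y := by rw [hu2, pow_two]; group
  obtain ⟨⟨u1, hu1U⟩, hd⟩ := hsurj ⟨⁅q, q * u * q⁻¹⁆, h.comm_mem (h.conj_mem (hUM hu) q)⟩
  have hd' : ⁅q, u1⁆ = ⁅q, q * u * q⁻¹⁆ := congrArg Subtype.val hd
  have hdecomp : u2 = u1⁻¹ * (q * (u * u1) * q⁻¹) := by
    have h1 : u2 = ⁅q, q * u * q⁻¹⁆ * (q * u * q⁻¹) := by
      rw [hu2, commutatorElement_def, pow_two]; group
    have hm1 : q * u1 * q⁻¹ ∈ M := h.conj_mem (hUM hu1U) q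
    have hm2 : q * u * q⁻¹ ∈ M := h.conj_mem (hUM hu) q
    calc u2 = q * u1 * q⁻¹ * u1⁻¹ * (q * u * q⁻¹) := by
          rw [h1, ← hd', commutatorElement_def]
      _ = u1⁻¹ * (q * u1 * q⁻¹) * (q * u * q⁻¹) := by rw [h.comm hm1 (inv_mem (hUM hu1U))]
      _ = u1⁻¹ * (q * (u1 * u) * q⁻¹) := by group
      _ = u1⁻¹ * (q * (u * u1) * q⁻¹) := by rw [h.comm (hUM hu1U) (hUM hu)]
  set b := q * (u * u1) * q⁻¹ with hb
  have hbW : b ∈ W ⊓ centralizer (H' : Set S) := hconj _ (mul_mem hu hu1U)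
  have hH'conj : ∀ y ∈ F, ∀ x, x ∈ centralizer (H' : Set S) →
      y * x * y⁻¹ ∈ centralizer (H' : Set S) := by
    intro y hy x hx
    exact (mem_normalizer_iff.mp (Coprime.le_normalizer_centralizer
      ((Coprime.ea_le_centralizer hF).trans ((centralizer_le hH'F).trans
        (centralizer_le_normalizer _))) hy) x).mp hx
  -- `H''` fixes both components
  have ha1 : ∀ y ∈ H'', y * u1⁻¹ * y⁻¹ = u1⁻¹ := by
    intro y hy
    have hyF := hH''F hy
    have hx : u2 = y * u2 * y⁻¹ := by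
      rw [mem_centralizer_iff.mp hu2c y hy, mul_inv_cancel_right]
    rw [hdecomp] at hx
    have hx' : (y * u1⁻¹ * y⁻¹)⁻¹ * u1⁻¹ = (y * b * y⁻¹) * b⁻¹ := by
      have : u1⁻¹ = y * u1⁻¹ * y⁻¹ * (y * b * y⁻¹) * b⁻¹ := by
        calc u1⁻¹ = u1⁻¹ * b * b⁻¹ := by group
          _ = y * (u1⁻¹ * b) * y⁻¹ * b⁻¹ := by rw [← hx]
          _ = _ := by group
      calc _ = (y * u1⁻¹ * y⁻¹)⁻¹ * (y * u1⁻¹ * y⁻¹ * (y * b * y⁻¹) * b⁻¹) := by rw [← this]
        _ = _ := by group
    have hl : (y * u1⁻¹ * y⁻¹)⁻¹ * u1⁻¹ ∈ U :=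
      mul_mem (inv_mem ((mem_normalizer_iff.mp (hFU hyF) _).mp (inv_mem hu1U))) (inv_mem hu1U)
    have hr' : (y * b * y⁻¹) * b⁻¹ ∈ centralizer (H' : Set S) :=
      mul_mem (hH'conj y hyF b hbW.2) (inv_mem hbW.2)
    have h1 := hindep _ hl (hx' ▸ hr')
    exact inv_mul_eq_one.mp h1
  by_cases heq2 : H'' = H
  · -- then `q` would map the conjugate of `U` back to `U`
    have hu2U : u2 ∈ U := mem_inf.mpr ⟨by
      have := hqW _ (hqW u hu.1)
      rw [hu2, pow_two]
      simpa [mul_assoc] using this, heq2 ▸ hu2c⟩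
    have h3 : q * u2 * q⁻¹ = u := by
      rw [← hcub u (hUM hu), hu2, pow_succ' q 2]
      group
    have h4 := hconj _ hu2U
    rw [h3] at h4
    exact hu1 (hindep u hu h4.2)
  · have hsup2 : H ⊔ H'' = F := hFmax _ (sup_le hHF hH''F) le_sup_left fun hle =>
      heq2 (eq_of_le_of_card_ge (le_sup_right.trans hle)
        ((card_map_of_injective (MulAut.conj q).injective).trans hcardH').ge)
    have hu1e : u1⁻¹ = 1 := by
      refine hW0 _ (inv_mem hu1U.1) ?_
      have h1 : F ≤ centralizer {u1⁻¹} := by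
        rw [← hsup2]
        exact sup_le
          (fun y hy => mem_centralizer_singleton_iff.mpr
            (mem_centralizer_iff.mp (inv_mem hu1U.2) y hy))
          (fun y hy => mem_centralizer_singleton_iff.mpr (mul_inv_eq_iff_eq_mul.mp (ha1 y hy)))
      exact mem_centralizer_iff.mpr fun y hy => mem_centralizer_singleton_iff.mp (h1 hy)
    rw [hu1e, one_mul, hb, inv_eq_one.mp hu1e, mul_one] at hdecomp
    have h5 : q * u * q⁻¹ = u := by
      rw [hu2, pow_two] at hdecomp
      calc q * u * q⁻¹ = q⁻¹ * (q * q * u * (q * q)⁻¹) * q := by group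
        _ = q⁻¹ * (q * u * q⁻¹) * q := by rw [hdecomp]
        _ = u := by group
    exact huq (mul_inv_eq_iff_eq_mul.mp h5)

end Cfsg.Agent.SolFour
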